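import Groth.Agent.WittGrp.K718.Sch
import Groth.Prelude.Def_AlgGrp

/-!
# The sequence `0 → W_m → W_{n+m} → W_n → 0`

`V` is a closed immersion, `R` is flat and surjective, `V` is the kernel of `R`.
-/

set_option autoImplicit false

universe u

open CategoryTheory CategoryTheory.Limits AlgebraicGeometry Opposite MonObj MonoidalCategory CartesianMonoidalCategory

namespace K718.Exact

open WittGrp K718.Pts K718.Sch

variable (p : ℕ) [hp : Fact p.Prime] (n m : ℕ) (S : Scheme.{u})

instance isSeparated_hom : IsSeparated (W p n S).hom := inferInstance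

theorem isClosedImmersion_V : IsClosedImmersion (V p S (Nat.le_add_left m n)).left := by
  have h : (V p S (Nat.le_add_left m n)).left ≫ (high p n m S).left = 𝟙 _ := by
    rw [← Over.comp_left, V_high]; rfl
  have h1 : IsSeparated (high p n m S).left := by
    have : IsSeparated ((high p n m S).left ≫ (W p m S).hom) := by rw [Over.w]; infer_instance
    exact IsSeparated.of_comp (high p n m S).left (W p m S).hom
  have h2 : IsClosedImmersion ((V p S (Nat.le_add_left m n)).left ≫ (high p n m S).left) := by
    rw [h]; infer_instance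
  exact IsClosedImmersion.of_comp _ (high p n m S).left

theorem flat_fst (X Y : Over S) [Flat Y.hom] : Flat (fst X Y).left := by
  rw [Over.fst_left]; infer_instance

theorem flat_R : Flat (R p S (Nat.le_add_right n m)).left := by
  rw [← splitIso_hom_fst, Over.comp_left]
  have := flat_fst S (W p n S) (W p m S)
  infer_instance

theorem surjective_R {n m : ℕ} (h : n ≤ m) : Surjective (R p S h).left := by
  have h : (pad p S h).left ≫ (R p S h).left = 𝟙 _ := by
    rw [← Over.comp_left, pad_R]; rfl
  have : Surjective ((pad p S ‹_›).left ≫ (R p S ‹_›).left) := by rw [h]; infer_instance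
  exact Surjective.of_comp (pad p S ‹_›).left _

/-- A pair `i : N ⟶ G`, `q : G ⟶ Q` is a kernel when on points `i` is injective with image the points killed by `q`. -/
theorem isKernel_of_points {N G Q : Over S} [GrpObj Q] (i : N ⟶ G) (q : G ⟶ Q)
    (h0 : i ≫ q = 1)
    (h1 : ∀ (T : Over S) (x y : T ⟶ N), x ≫ i = y ≫ i → x = y)
    (h2 : ∀ (T : Over S) (x : T ⟶ G), x ≫ q = 1 → ∃ y : T ⟶ N, y ≫ i = x) :
    AlgGrp.IsKernel i q := by
  refine ⟨⟨?_⟩, ⟨?_⟩⟩
  · rw [h0, Hom.one_def]
  · have hs : ∀ s : PullbackCone q η[Q], s.fst ≫ q = 1 := fun s => by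
      rw [s.condition, Hom.one_def]
      congr 1
      exact toUnit_unique _ _
    exact PullbackCone.IsLimit.mk _ (fun s => (h2 s.pt s.fst (hs s)).choose)
      (fun s => (h2 s.pt s.fst (hs s)).choose_spec) (fun s => toUnit_unique _ _)
      (fun s m hm _ => h1 _ _ _ (hm.trans (h2 s.pt s.fst (hs s)).choose_spec.symm))

theorem shift_injective {R : Type*} [CommRing R] {n m : ℕ} (h : n ≤ m) :
    Function.Injective (shift p h (R := R)) := by
  intro x y hxy
  refine TruncatedWittVector.ext fun i => ?_
  have := congrArg (fun z : TruncatedWittVector p m R => z.coeff ⟨(i : ℕ) + (m - n), by omega⟩) hxy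
  simp only [coeff_shift] at this
  rw [dif_pos (by omega), dif_pos (by omega)] at this
  have e : (⟨(i : ℕ) + (m - n) - (m - n), by omega⟩ : Fin n) = i := by ext; simp
  rwa [e] at this

theorem V_injective {n m : ℕ} (h : n ≤ m) {T : Over S} {x y : T ⟶ W p n S}
    (hxy : x ≫ V p S h = y ≫ V p S h) : x = y := by
  refine pts_ext p (shift_injective p h ?_)
  rw [← pts_V, ← pts_V, hxy]

theorem isKernel : AlgGrp.IsKernel (V p S (Nat.le_add_left m n)) (R p S (Nat.le_add_right n m)) := by
  refine isKernel_of_points S _ _ ?_ (fun T x y h => V_injective p S _ h) (fun T x hx => ?_)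
  · refine pts_ext p ?_
    rw [pts_one, pts_R, ← Category.id_comp (V p S _), pts_V]
    refine TruncatedWittVector.ext fun i => ?_
    rw [TruncatedWittVector.coeff_truncate, coeff_shift, dif_neg (by simp), TruncatedWittVector.coeff_zero]
  · refine ⟨x ≫ high p n m S, pts_ext p (TruncatedWittVector.ext fun i => ?_)⟩
    rw [pts_V, coeff_shift]
    refine Fin.addCases (fun i => ?_) (fun i => ?_) i
    · rw [dif_neg (by simp)]
      have := congrArg (fun z => TruncatedWittVector.coeff i (pts p T (Additive.ofMul z))) hx
      simp only [pts_R_coeff, pts_one, TruncatedWittVector.coeff_zero] at this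
      exact this.symm
    · rw [dif_pos (by simp), pts_high]
      congr 1
      ext
      simp

end K718.Exact
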