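import Groth.Agent.WittGrp.K718.SectAlg
import Groth.Agent.WittGrp.K718.Exact
import Groth.Agent.S0082
import Mathlib.AlgebraicGeometry.Sites.Fpqc
import Mathlib.AlgebraicGeometry.Morphisms.Flat

/-!
# Torsors under Witt groups over an affine base are trivial

`i : H ⟶ E`, `π : E ⟶ Q` homomorphisms of group schemes, `π` faithfully flat quasi-compact with kernel `i`, `Q` affine.

* `exists_equivariant`: for a homomorphism `χ : H ⟶ W_n` there is `β : E ⟶ W_n` with `β (e h) = β e + χ h`;
* `exists_section`: for `H = W_n` the morphism `π` has a section.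
-/

set_option autoImplicit false

universe u

open CategoryTheory CategoryTheory.Limits AlgebraicGeometry Opposite MonObj MonoidalCategory CartesianMonoidalCategory

namespace K718.Sect

open WittGrp K718.Pts K718.Sch K718.Exact

set_option linter.unusedSectionVars false

theorem isPullback_of_points {C : Type*} [Category C] {P X Y Z : C} {fst : P ⟶ X} {snd : P ⟶ Y} {f : X ⟶ Z} {g : Y ⟶ Z}
    (w : fst ≫ f = snd ≫ g)
    (h1 : ∀ (T : C) (x : T ⟶ X) (y : T ⟶ Y), x ≫ f = y ≫ g → ∃ z : T ⟶ P, z ≫ fst = x ∧ z ≫ snd = y)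
    (h2 : ∀ (T : C) (z z' : T ⟶ P), z ≫ fst = z' ≫ fst → z ≫ snd = z' ≫ snd → z = z') :
    IsPullback fst snd f g :=
  ⟨⟨w⟩, ⟨PullbackCone.IsLimit.mk _ (fun s => (h1 s.pt s.fst s.snd s.condition).choose)
    (fun s => (h1 s.pt s.fst s.snd s.condition).choose_spec.1)
    (fun s => (h1 s.pt s.fst s.snd s.condition).choose_spec.2)
    (fun s _ hm hm' => h2 _ _ _ (hm.trans (h1 s.pt s.fst s.snd s.condition).choose_spec.1.symm)
      (hm'.trans (h1 s.pt s.fst s.snd s.condition).choose_spec.2.symm))⟩⟩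

variable {S : Scheme.{u}} {E Q H : Over S} [GrpObj E] (i : H ⟶ E) (π : E ⟶ Q)

/-- The action of `H` on `E` by right translations. -/
noncomputable def act : E ⊗ H ⟶ E := fst E H * (snd E H ≫ i)

theorem comp_act {T : Over S} (z : T ⟶ E ⊗ H) : z ≫ act i = (z ≫ fst E H) * ((z ≫ snd E H) ≫ i) := by
  rw [act, comp_mul, Category.assoc]

theorem lift_act {T : Over S} (x : T ⟶ E) (y : T ⟶ H) : lift x y ≫ act i = x * (y ≫ i) := by
  rw [comp_act, lift_fst, lift_snd]

section Kernel

variable [GrpObj Q] [IsMonHom π]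

omit [GrpObj E] [IsMonHom π] in
theorem kernel_lift (hK : AlgGrp.IsKernel i π) {T : Over S} (x : T ⟶ E) (hx : x ≫ π = 1) : ∃ y : T ⟶ H, y ≫ i = x := by
  obtain ⟨n, hn, -⟩ := hK.exists_lift x (toUnit T) (by rw [hx, Hom.one_def])
  exact ⟨n, hn⟩

omit [GrpObj E] [IsMonHom π] in
theorem kernel_mono (hK : AlgGrp.IsKernel i π) {T : Over S} {x y : T ⟶ H} (h : x ≫ i = y ≫ i) : x = y :=
  hK.hom_ext h (toUnit_unique _ _)

omit [GrpObj E] [IsMonHom π] in
theorem kernel_comp (hK : AlgGrp.IsKernel i π) : i ≫ π = 1 := by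
  rw [hK.w, Hom.one_def]

theorem act_comp (hK : AlgGrp.IsKernel i π) : act i ≫ π = fst E H ≫ π := by
  rw [act, mul_comp, Category.assoc, kernel_comp i π hK, comp_one, _root_.mul_one]

theorem exists_diff (hK : AlgGrp.IsKernel i π) {T : Over S} (x y : T ⟶ E) (h : x ≫ π = y ≫ π) :
    ∃ z : T ⟶ H, x * (z ≫ i) = y := by
  obtain ⟨z, hz⟩ := kernel_lift i π hK (x⁻¹ * y) (by
    rw [mul_comp, GrpObj.inv_comp, h, inv_mul_cancel])
  exact ⟨z, by rw [hz, mul_inv_cancel_left]⟩

theorem isPullback_act (hK : AlgGrp.IsKernel i π) : IsPullback (fst E H) (act i) π π := by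
  refine isPullback_of_points (act_comp i π hK).symm (fun T x y h => ?_) (fun T z z' h1 h2 => ?_)
  · obtain ⟨z, hz⟩ := exists_diff i π hK x y h
    exact ⟨lift x z, lift_fst _ _, by rw [lift_act, hz]⟩
  · rw [comp_act, comp_act, h1] at h2
    refine CartesianMonoidalCategory.hom_ext _ _ h1 (kernel_mono i π hK (mul_left_cancel h2))

variable [GrpObj H]

/-- `(e, h, h') ↦ (e h, h')`. -/
noncomputable def actR : (E ⊗ H) ⊗ H ⟶ E ⊗ H := lift (fst (E ⊗ H) H ≫ act i) (snd (E ⊗ H) H)

/-- `(e, h, h') ↦ (e, h h')`. -/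
noncomputable def mulR (E H : Over S) [GrpObj H] : (E ⊗ H) ⊗ H ⟶ E ⊗ H :=
  lift (fst (E ⊗ H) H ≫ fst E H) ((fst (E ⊗ H) H ≫ snd E H) * snd (E ⊗ H) H)

theorem isPullback_actR (hK : AlgGrp.IsKernel i π) :
    IsPullback (fst (E ⊗ H) H ≫ fst E H) (actR i) π (fst E H ≫ π) := by
  refine isPullback_of_points ?_ (fun T x y h => ?_) (fun T z z' h1 h2 => ?_)
  · rw [actR, lift_fst_assoc, Category.assoc, Category.assoc, act_comp i π hK]
  · rw [← Category.assoc] at h
    obtain ⟨z, hz⟩ := exists_diff i π hK x (y ≫ fst E H) h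
    refine ⟨lift (lift x z) (y ≫ snd E H), ?_, ?_⟩
    · rw [lift_fst_assoc, lift_fst]
    · rw [actR, comp_lift, lift_fst_assoc, lift_snd, lift_act, hz, ← comp_lift, lift_fst_snd, Category.comp_id]
  · have h3 : z ≫ snd (E ⊗ H) H = z' ≫ snd (E ⊗ H) H := by
      have := congrArg (fun f => f ≫ snd E H) h2
      simpa only [actR, Category.assoc, lift_snd] using this
    have h4 : (z ≫ fst (E ⊗ H) H) ≫ act i = (z' ≫ fst (E ⊗ H) H) ≫ act i := by
      have := congrArg (fun f => f ≫ fst E H) h2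
      simpa only [actR, Category.assoc, lift_fst] using this
    refine CartesianMonoidalCategory.hom_ext _ _ ((isPullback_act i π hK).hom_ext ?_ h4) h3
    simpa only [Category.assoc] using h1

end Kernel

theorem isPullback_left {P X Y Z : Over S} {f : P ⟶ X} {g : P ⟶ Y} {f' : X ⟶ Z} {g' : Y ⟶ Z}
    (h : IsPullback f g f' g') : IsPullback f.left g.left f'.left g'.left :=
  h.map (Over.forget S)

section Affine

variable [GrpObj Q] [IsMonHom π] [GrpObj H] [IsMonHom i] [IsAffineHom H.hom] [Flat π.left] [Surjective π.left]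
  [QuasiCompact π.left]

theorem isAffineHom_fst_left (E H : Over S) [IsAffineHom H.hom] : IsAffineHom (fst E H).left := by
  rw [Over.fst_left]
  exact MorphismProperty.pullback_fst _ _ inferInstance

include i in
omit [IsMonHom i] [GrpObj H] in
theorem isAffineHom_left (hK : AlgGrp.IsKernel i π) : IsAffineHom π.left := by
  have h := isPullback_left (isPullback_act i π hK)
  have : MorphismProperty.DescendsAlong @IsAffineHom (@Surjective ⊓ @Flat ⊓ @QuasiCompact : MorphismProperty Scheme.{u}) :=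
    Groth.Agent.S0082.result
  refine MorphismProperty.of_isPullback_of_descendsAlong (P := @IsAffineHom)
    (Q := (@Surjective ⊓ @Flat ⊓ @QuasiCompact : MorphismProperty Scheme.{u})) h ?_ ?_
  · exact ⟨⟨inferInstance, inferInstance⟩, inferInstance⟩
  · exact isAffineHom_fst_left E H

/-- Every cocycle of the torsor with values in functions is a coboundary. -/
theorem exists_primitive [IsAffine Q.left] (hK : AlgGrp.IsKernel i π) (c : Γ((E ⊗ H).left, ⊤))
    (hc : (mulR E H).left.appTop c = (fst (E ⊗ H) H).left.appTop c + (actR i).left.appTop c) :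
    ∃ b : Γ(E.left, ⊤), (act i).left.appTop b = (fst E H).left.appTop b + c := by
  have hπ := isAffineHom_left i π hK
  have hE : IsAffine E.left := isAffine_of_isAffineHom π.left
  have h1 := isAffineHom_fst_left E H
  have hEH : IsAffine (E ⊗ H).left := isAffine_of_isAffineHom (fst E H).left
  let A := Γ(Q.left, ⊤)
  let B := Γ(E.left, ⊤)
  let N := Γ((E ⊗ H).left, ⊤)
  let P := Γ(((E ⊗ H) ⊗ H).left, ⊤)
  let algB : Algebra A B := (π.left.appTop).hom.toAlgebra
  let algN : Algebra A N := ((fst E H ≫ π).left.appTop).hom.toAlgebra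
  let algP : Algebra A P := ((fst (E ⊗ H) H ≫ fst E H ≫ π).left.appTop).hom.toAlgebra
  have comm : ∀ {X Y Z : Over S} (f : X ⟶ Y) (g : Y ⟶ Z) (h : X ⟶ Z) (_ : f ≫ g = h) (r : Γ(Z.left, ⊤)),
      f.left.appTop.hom (g.left.appTop.hom r) = h.left.appTop.hom r := by
    rintro X Y Z f g _ rfl r
    rw [Over.comp_left, Scheme.Hom.comp_appTop]
    rfl
  let f : B →ₐ[A] N := { (fst E H).left.appTop.hom with
    commutes' := fun r => comm (fst E H) π _ rfl r }
  let ρ : B →ₐ[A] N := { (act i).left.appTop.hom with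
    commutes' := fun r => comm (act i) π _ (act_comp i π hK) r }
  let e : B →ₐ[A] P := { (fst (E ⊗ H) H ≫ fst E H).left.appTop.hom with
    commutes' := fun r => comm (fst (E ⊗ H) H ≫ fst E H) π _ (by rw [Category.assoc]) r }
  let a : N →ₐ[A] P := { (actR i).left.appTop.hom with
    commutes' := fun r => comm (actR i) (fst E H ≫ π) _ (by
      rw [← (isPullback_actR i π hK).w, Category.assoc]) r }
  let m : N →ₐ[A] P := { (mulR E H).left.appTop.hom with
    commutes' := fun r => comm (mulR E H) (fst E H ≫ π) _ (by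
      rw [mulR, lift_fst_assoc, Category.assoc]) r }
  let q : N →ₐ[A] P := { (fst (E ⊗ H) H).left.appTop.hom with
    commutes' := fun r => comm (fst (E ⊗ H) H) (fst E H ≫ π) _ rfl r }
  have hff : Module.FaithfullyFlat A B := ((Flat.flat_and_surjective_iff_faithfullyFlat_of_isAffine π.left).1
    ⟨inferInstance, inferInstance⟩)
  have p1 := isPushout_appTop_of_isPullback (isPullback_left (isPullback_act i π hK))
  have p2 := isPushout_appTop_of_isPullback (isPullback_left (isPullback_actR i π hK))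
  have s1 : Function.Surjective (Algebra.TensorProduct.productMap f ρ) :=
    (SectAlg.bijective_productMap f ρ p1).2
  have s2 : Function.Injective (Algebra.TensorProduct.productMap e a) :=
    (SectAlg.bijective_productMap e a p2).1
  have h1 : mulR E H ≫ act i = actR i ≫ act i := by
    rw [mulR, actR, lift_act, lift_act, act, mul_comp, comp_mul, _root_.mul_assoc, Category.assoc]
  have h2 : fst (E ⊗ H) H ≫ act i = actR i ≫ fst E H := by rw [actR, lift_fst]
  obtain ⟨b, hb⟩ := SectAlg.exists_primitive f ρ e a m q s1 s2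
    (fun b => comm _ _ _ (by rw [mulR, lift_fst]) b)
    (fun b => (comm (mulR E H) (act i) _ h1 b).trans (comm _ _ _ rfl b).symm)
    (fun b => comm _ _ _ rfl b)
    (fun b => (comm (fst (E ⊗ H) H) (act i) _ h2 b).trans (comm _ _ _ rfl b).symm) c hc
  exact ⟨b, by rw [← sub_eq_iff_eq_add']; exact hb⟩

end Affine

/-! ### Descent along `π` -/

section Descent

variable {Y : Over S} [Flat π.left] [Surjective π.left] [QuasiCompact π.left]

theorem epi : Epi π := by
  have hepi : Epi π.left := inferInstance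
  exact Over.epi_of_epi_left π

/-- A morphism constant on the fibres of `π` descends. -/
theorem exists_desc (f : E ⟶ Y) (h : ∀ (T : Over S) (x y : T ⟶ E), x ≫ π = y ≫ π → x ≫ f = y ≫ f) :
    ∃ g : Q ⟶ Y, π ≫ g = f := by
  have hex : ∃ g : Q.left ⟶ Y.left, π.left ≫ g = f.left := by
    have hh : ∀ {Z : Scheme.{u}} (g₁ g₂ : Z ⟶ E.left), g₁ ≫ π.left = g₂ ≫ π.left →
        g₁ ≫ f.left = g₂ ≫ f.left := by
      intro Z g₁ g₂ h1
      have hw : g₂ ≫ E.hom = g₁ ≫ E.hom := by
        rw [← Over.w π, ← Category.assoc, ← Category.assoc, h1]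
      have := h (Over.mk (g₁ ≫ E.hom)) (Over.homMk g₁ rfl) (Over.homMk g₂ hw) (by
        ext
        simpa using h1)
      simpa using congrArg (fun f => f.left) this
    exact ⟨EffectiveEpi.desc π.left f.left hh, EffectiveEpi.fac π.left f.left hh⟩
  obtain ⟨g, hg⟩ := hex
  have hepi : Epi π.left := inferInstance
  have hw : g ≫ Y.hom = Q.hom := by
    rw [← cancel_epi π.left, reassoc_of% hg, Over.w, Over.w]
  refine ⟨Over.homMk g hw, ?_⟩
  ext
  simpa using hg

theorem exists_desc_act [GrpObj Q] [IsMonHom π] (hK : AlgGrp.IsKernel i π) (f : E ⟶ Y)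
    (h : act i ≫ f = fst E H ≫ f) : ∃ g : Q ⟶ Y, π ≫ g = f := by
  refine exists_desc π f fun T x y hxy => ?_
  obtain ⟨z, rfl⟩ := exists_diff i π hK x y hxy
  rw [← lift_act, Category.assoc, h, lift_fst_assoc]

/-- A morphism between group objects from `Q` whose composition with `π` is a homomorphism is one. -/
theorem isMonHom_desc {G : Over S} [GrpObj Q] [IsMonHom π] [GrpObj G] (g : Q ⟶ G) [IsMonHom (π ≫ g)] : IsMonHom g := by
  have hepi := epi π
  have hq2 : ∀ (P : MorphismProperty Scheme.{u}) [P.IsStableUnderBaseChange]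
      [P.IsMultiplicative], P π.left → P (π ⊗ₘ π).left := by
    intro P _ _ hP
    rw [Over.tensorHom_left]
    exact MorphismProperty.pullbackMap hP hP (Over.w π).symm (Over.w π).symm
  have hepi2 : Epi (π ⊗ₘ π) := by
    have h1 : QuasiCompact (π ⊗ₘ π).left := hq2 @QuasiCompact inferInstance
    have h2 : Flat (π ⊗ₘ π).left := hq2 @Flat inferInstance
    have h3 : Surjective (π ⊗ₘ π).left := hq2 @Surjective inferInstance
    exact Over.epi_of_epi_left _
  refine ⟨?_, ?_⟩
  · have h1 : η[Q] = η[E] ≫ π := (IsMonHom.one_hom π).symm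
    rw [h1, Category.assoc, IsMonHom.one_hom]
  · rw [← cancel_epi (π ⊗ₘ π), ← Category.assoc, ← IsMonHom.mul_hom π, Category.assoc,
      IsMonHom.mul_hom (π ≫ g), ← Category.assoc, tensorHom_comp_tensorHom]

end Descent

/-! ### Witt vector valued cocycles -/

section Witt

variable (p : ℕ) [hp : Fact p.Prime] [GrpObj Q] [IsMonHom π] [GrpObj H] [IsMonHom i] [IsAffineHom H.hom] [Flat π.left]
  [Surjective π.left] [QuasiCompact π.left] [IsAffine Q.left]

/-- The function of a morphism to `W_1`. -/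
noncomputable def fn {X : Over S} (f : X ⟶ W p 1 S) : Γ(X.left, ⊤) := (pts p X (Additive.ofMul f)).coeff 0

theorem fn_injective {X : Over S} : Function.Injective (fn p : (X ⟶ W p 1 S) → _) := by
  intro f g h
  refine pts_ext p (TruncatedWittVector.ext fun i => ?_)
  rw [Subsingleton.elim i 0]
  exact h

theorem coeff_zero_add {R : Type*} [CommRing R] (x y : TruncatedWittVector p 1 R) :
    (x + y).coeff 0 = x.coeff 0 + y.coeff 0 := by
  obtain ⟨X, rfl⟩ := WittVector.truncate_surjective p 1 R x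
  obtain ⟨Y, rfl⟩ := WittVector.truncate_surjective p 1 R y
  rw [← map_add, WittVector.coeff_truncate, WittVector.coeff_truncate, WittVector.coeff_truncate]
  exact WittVector.add_coeff_zero X Y

theorem fn_mul {X : Over S} (f g : X ⟶ W p 1 S) : fn p (f * g) = fn p f + fn p g := by
  rw [fn, pts_mul, coeff_zero_add]; rfl

theorem fn_comp {X Y : Over S} (f : X ⟶ Y) (g : Y ⟶ W p 1 S) : fn p (f ≫ g) = f.left.appTop (fn p g) := by
  rw [fn, pts_comp, coeff_truncMap]; rfl

theorem exists_fn {X : Over S} (b : Γ(X.left, ⊤)) : ∃ f : X ⟶ W p 1 S, fn p f = b :=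
  ⟨ofVec p X (TruncatedWittVector.mk p fun _ => b), by
    rw [fn, pts_ofVec, TruncatedWittVector.coeff_mk]⟩

theorem exists_primitive_W1 (hK : AlgGrp.IsKernel i π) (c : E ⊗ H ⟶ W p 1 S)
    (hc : mulR E H ≫ c = (fst (E ⊗ H) H ≫ c) * (actR i ≫ c)) :
    ∃ β : E ⟶ W p 1 S, act i ≫ β = (fst E H ≫ β) * c := by
  obtain ⟨b, hb⟩ := exists_primitive i π hK (fn p c) (by
    rw [← fn_comp, hc, fn_mul, fn_comp, fn_comp])
  obtain ⟨β, rfl⟩ := exists_fn p b
  exact ⟨β, fn_injective p (by rw [fn_mul, fn_comp, fn_comp, hb])⟩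

omit hp in
theorem aux_add {G : Type*} [AddCommGroup G] (s t b c d : G) :
    (s + t) + b + -d = (s + b + -c) + (t + c + -d) := by abel

omit hp in
theorem aux_mul {G : Type*} [CommGroup G] (s t b c d : G) :
    (s * t) * b * d⁻¹ = (s * b * c⁻¹) * (t * c * d⁻¹) :=
  aux_add (G := Additive G) (Additive.ofMul s) (Additive.ofMul t) (Additive.ofMul b) (Additive.ofMul c) (Additive.ofMul d)

theorem exists_equivariant (hK : AlgGrp.IsKernel i π) (n : ℕ) (χ : H ⟶ W p n S) [IsMonHom χ] :
    ∃ β : E ⟶ W p n S, act i ≫ β = (fst E H ≫ β) * (snd E H ≫ χ) := by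
  induction n with
  | zero => exact ⟨1, pts_ext p (TruncatedWittVector.ext fun i => i.elim0)⟩
  | succ n ih =>
    obtain ⟨β, hβ⟩ := ih (χ ≫ R p S (Nat.le_add_right n 1))
    obtain ⟨β', hβ'⟩ : ∃ β' : E ⟶ W p (n + 1) S, β' ≫ R p S (Nat.le_add_right n 1) = β :=
      ⟨β ≫ pad p S (Nat.le_add_right n 1), by rw [Category.assoc, pad_R, Category.comp_id]⟩
    obtain ⟨c, hc⟩ := kernel_lift _ _ (isKernel p n 1 S) ((snd E H ≫ χ) * (fst E H ≫ β') * (act i ≫ β')⁻¹) (by
      rw [mul_comp, GrpObj.inv_comp, mul_comp, Category.assoc, Category.assoc, Category.assoc, hβ', hβ, _root_.mul_comm,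
        _root_.mul_comm (snd E H ≫ _), inv_mul_cancel])
    have h1 : mulR E H ≫ act i = actR i ≫ act i := by
      rw [mulR, actR, lift_act, lift_act, act, mul_comp, comp_mul, _root_.mul_assoc, Category.assoc]
    have h2 : actR i ≫ fst E H = fst (E ⊗ H) H ≫ act i := by rw [actR, lift_fst]
    have h3 : actR i ≫ snd E H = snd (E ⊗ H) H := by rw [actR, lift_snd]
    have h4 : mulR E H ≫ fst E H = fst (E ⊗ H) H ≫ fst E H := by rw [mulR, lift_fst]
    have h5 : mulR E H ≫ snd E H = (fst (E ⊗ H) H ≫ snd E H) * snd (E ⊗ H) H := by rw [mulR, lift_snd]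
    obtain ⟨b, hb⟩ := exists_primitive_W1 i π p hK c (by
      refine V_injective p S (Nat.le_add_left 1 n) ?_
      rw [mul_comp, Category.assoc, Category.assoc, Category.assoc, hc]
      simp only [comp_mul, GrpObj.comp_inv, ← Category.assoc, h1, h2, h3, h4, h5, mul_comp]
      exact aux_mul _ _ _ _ _)
    refine ⟨β' * (b ≫ V p S (Nat.le_add_left 1 n)), ?_⟩
    rw [comp_mul, comp_mul, ← Category.assoc, hb, mul_comp, hc, ← Category.assoc]
    generalize act i ≫ β' = x
    generalize fst E H ≫ β' = y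
    generalize (fst E H ≫ b) ≫ V p S _ = z
    generalize snd E H ≫ χ = w
    have : ∀ {G : Type u} [CommGroup G] (x y z w : G), x * (z * (w * y * x⁻¹)) = y * z * w := by
      intro G _ x y z w
      have : ∀ {G : Type u} [AddCommGroup G] (x y z w : G), x + (z + (w + y + -x)) = y + z + w := by
        intro G _ x y z w; abel
      exact this (G := Additive G) (Additive.ofMul x) (Additive.ofMul y) (Additive.ofMul z) (Additive.ofMul w)
    exact this x y z w

end Witt

/-- The section of a `W_n`-torsor. -/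
theorem exists_section (p : ℕ) [hp : Fact p.Prime] [GrpObj Q] [IsMonHom π] [Flat π.left]
    [Surjective π.left] [QuasiCompact π.left] [IsAffine Q.left] (n : ℕ) (i : W p n S ⟶ E) [IsMonHom i]
    (hK : AlgGrp.IsKernel i π) : ∃ s : Q ⟶ E, s ≫ π = 𝟙 _ := by
  obtain ⟨β, hβ⟩ := exists_equivariant i π p hK n (𝟙 _)
  rw [Category.comp_id] at hβ
  obtain ⟨s, hs⟩ := exists_desc_act i π hK (𝟙 _ * (β ≫ i)⁻¹) (by
    rw [comp_mul, comp_mul, GrpObj.comp_inv, GrpObj.comp_inv, ← Category.assoc, hβ, mul_comp, Category.comp_id,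
      Category.comp_id, ← Category.assoc, mul_inv_rev, act, _root_.mul_assoc, mul_inv_cancel_left])
  refine ⟨s, ?_⟩
  have := epi π
  rw [← cancel_epi π, ← Category.assoc, hs, mul_comp, GrpObj.inv_comp, Category.assoc, kernel_comp i π hK, comp_one,
    inv_one, _root_.mul_one, Category.id_comp, Category.comp_id]

end K718.Sect
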