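import Groth.Agent.Flat2B.SmoothGeom
import Mathlib.AlgebraicGeometry.AlgClosed.Basic
import Mathlib.CategoryTheory.Monoidal.Cartesian.Over
import Mathlib.CategoryTheory.Monoidal.Cartesian.Grp
import Mathlib.AlgebraicGeometry.Morphisms.Smooth

/-!
# Reasoning on points over an algebraically closed field

`k` algebraically closed, `Pt X = (𝟙_ ⟶ X)` the set of `k`-points of an object `X` of `Over (Spec k)`.

* `hom_ext_pt`: morphisms from a smooth scheme to a separated scheme locally of finite type agree if
  they agree on points;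
* `isMonHom_of_pt`: a morphism between group schemes which is multiplicative on points is a homomorphism.
-/

set_option autoImplicit false

universe u

open CategoryTheory CategoryTheory.Limits AlgebraicGeometry Opposite MonObj MonoidalCategory CartesianMonoidalCategory

namespace K718.KPts

variable {k : Type u} [Field k]

/-- The `k`-points. -/
abbrev Pt (X : Over (Spec (CommRingCat.of k))) : Type u := 𝟙_ (Over (Spec (CommRingCat.of k))) ⟶ X

variable [IsAlgClosed k]

theorem hom_ext_pt_of_isReduced {X Y : Over (Spec (CommRingCat.of k))} [IsReduced X.left] [LocallyOfFiniteType X.hom]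
    [IsSeparated Y.hom] [LocallyOfFiniteType Y.hom] {f g : X ⟶ Y}
    (h : ∀ x : Pt X, x ≫ f = x ≫ g) : f = g := by
  have : LocallyOfFiniteType (f.left ≫ Y.hom) := by rw [Over.w]; infer_instance
  refine Over.OverMorphism.ext ?_
  refine ext_of_apply_eq Y.hom Set.univ isClosed_univ.isLocallyClosed dense_univ (fun x _ hx => ?_) ?_
  · let a : Pt X := Over.homMk (pointOfClosedPoint X.hom x hx) (pointOfClosedPoint_comp X.hom x hx)
    have h1 := congrArg (fun b : Pt Y => b.left (IsLocalRing.closedPoint k)) (h a)
    simp only [Over.comp_left, Scheme.Hom.comp_apply] at h1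
    have h2 : a.left (IsLocalRing.closedPoint k) = x := pointOfClosedPoint_apply X.hom x hx _
    rw [h2] at h1
    exact h1
  · rw [Over.w, Over.w]

theorem hom_ext_pt {X Y : Over (Spec (CommRingCat.of k))} [Smooth X.hom]
    [IsSeparated Y.hom] [LocallyOfFiniteType Y.hom] {f g : X ⟶ Y}
    (h : ∀ x : Pt X, x ≫ f = x ≫ g) : f = g := by
  have : IsReduced X.left := Groth.Agent.Flat2B.SmoothGeom.isReduced_of_smooth X.hom
  exact hom_ext_pt_of_isReduced h

instance smooth_tensor (X Y : Over (Spec (CommRingCat.of k))) [Smooth X.hom] [Smooth Y.hom] :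
    Smooth (X ⊗ Y).hom := by
  change Smooth (pullback.fst X.hom Y.hom ≫ X.hom)
  infer_instance

/-- Two morphisms from a product agree if they agree on pairs of points. -/
theorem hom_ext_pt₂ {X Y Z : Over (Spec (CommRingCat.of k))} [Smooth X.hom] [Smooth Y.hom]
    [IsSeparated Z.hom] [LocallyOfFiniteType Z.hom] {f g : X ⊗ Y ⟶ Z}
    (h : ∀ (x : Pt X) (y : Pt Y), lift x y ≫ f = lift x y ≫ g) : f = g := by
  refine hom_ext_pt fun x => ?_
  have := h (x ≫ fst _ _) (x ≫ snd _ _)
  rwa [← comp_lift, lift_fst_snd, Category.comp_id] at this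

/-- A morphism multiplicative on points is a homomorphism. -/
theorem isMonHom_of_pt {G H : Over (Spec (CommRingCat.of k))} [GrpObj G] [GrpObj H] [Smooth G.hom]
    [IsSeparated H.hom] [LocallyOfFiniteType H.hom] (f : G ⟶ H)
    (h : ∀ x y : Pt G, (x * y) ≫ f = (x ≫ f) * (y ≫ f)) : IsMonHom f where
  one_hom := by
    have h1 := h 1 1
    rw [_root_.one_mul] at h1
    have h2 : (1 : Pt G) ≫ f = 1 := mul_eq_left.1 h1.symm
    have h3 : η[G] = (1 : Pt G) := by
      rw [Hom.one_def, toUnit_unique (toUnit (𝟙_ _)) (𝟙 _), Category.id_comp]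
    have h4 : η[H] = (1 : Pt H) := by
      rw [Hom.one_def, toUnit_unique (toUnit (𝟙_ _)) (𝟙 _), Category.id_comp]
    rw [h3, h4, h2]
  mul_hom := by
    refine hom_ext_pt₂ fun x y => ?_
    have h1 := h x y
    rw [Hom.mul_def, Hom.mul_def] at h1
    rw [lift_map_assoc, ← h1, Category.assoc]

end K718.KPts
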