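import Groth.Prelude.Def_WittGrp

/-!
# Calculus of points of the Witt group schemes

* `hom_ext_pts`: two morphisms `W_n ⟶ X`-like data are compared on points.
* ring level: commutation of truncation, shift and Frobenius; `truncate ∘ shift ∘ frob = p`.
-/

set_option autoImplicit false

universe u

open CategoryTheory CategoryTheory.Limits AlgebraicGeometry Opposite MonObj MonoidalCategory CartesianMonoidalCategory

namespace K718.Pts

open WittGrp

variable (p : ℕ) [hp : Fact p.Prime]

section RingLevel

variable {n m l : ℕ} {R : Type*} [CommRing R]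

/-- Restriction of a shifted Witt vector: `(0^{m-n}, x)` restricted to `l` components, written with
compatible lengths. -/
theorem truncate_shift {a b c d : ℕ} (h₁ : a ≤ b) (h₂ : a ≤ c) (h₃ : b ≤ d) (h₄ : c ≤ d)
    (hd : c - a = d - b) (x : TruncatedWittVector p b R) :
    shift p h₂ (TruncatedWittVector.truncate h₁ x) = TruncatedWittVector.truncate h₄ (shift p h₃ x) := by
  refine TruncatedWittVector.ext fun i => ?_
  rw [TruncatedWittVector.coeff_truncate, coeff_shift, coeff_shift]
  by_cases hi : c - a ≤ (i : ℕ)
  · have hi' : d - b ≤ ((Fin.castLE h₄ i : Fin d) : ℕ) := by simpa [← hd] using hi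
    rw [dif_pos hi, dif_pos hi', TruncatedWittVector.coeff_truncate]
    congr 1
    ext
    simp [← hd]
  · have hi' : ¬ d - b ≤ ((Fin.castLE h₄ i : Fin d) : ℕ) := by simpa [← hd] using hi
    rw [dif_neg hi, dif_neg hi']

theorem truncate_frob (h : n ≤ m) (hpR : (p : R) = 0) (x : TruncatedWittVector p m R) :
    TruncatedWittVector.truncate h (frob p m hpR x) = frob p n hpR (TruncatedWittVector.truncate h x) :=
  TruncatedWittVector.ext fun i => by
    rw [TruncatedWittVector.coeff_truncate, coeff_frob, coeff_frob, TruncatedWittVector.coeff_truncate]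

theorem shift_frob (h : n ≤ m) (hpR : (p : R) = 0) (x : TruncatedWittVector p n R) :
    shift p h (frob p n hpR x) = frob p m hpR (shift p h x) :=
  TruncatedWittVector.ext fun i => by
    rw [coeff_frob, coeff_shift, coeff_shift]
    split_ifs with hi
    · rw [coeff_frob]
    · rw [zero_pow hp.out.ne_zero]

theorem truncate_shift_frob (hpR : (p : R) = 0) (x : TruncatedWittVector p n R) :
    TruncatedWittVector.truncate (Nat.le_add_right n 1) (shift p (Nat.le_add_right n 1) (frob p n hpR x)) =
      p • x := by
  rcases subsingleton_or_nontrivial R with hR | hR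
  · exact TruncatedWittVector.ext fun i => Subsingleton.elim _ _
  · have : CharP R p := (CharP.charP_iff_prime_eq_zero hp.out).2 hpR
    obtain ⟨X, rfl⟩ := WittVector.truncate_surjective p n R x
    rw [frob_truncate, shift_truncate, TruncatedWittVector.truncate_wittVector_truncate]
    have : n + 1 - n = 1 := by omega
    rw [this, Function.iterate_one, WittVector.verschiebung_frobenius, nsmul_eq_mul, map_mul, map_natCast, mul_comm]

end RingLevel

section SchemeLevel

variable {n m : ℕ} {S : Scheme.{u}}

/-- Two morphisms into a Witt group are equal when they have the same Witt vector. -/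
theorem pts_ext {T : Over S} {x y : T ⟶ W p n S}
    (h : pts p T (Additive.ofMul x) = pts p T (Additive.ofMul y)) : x = y :=
  pts_injective p T h

theorem pts_pow (T : Over S) (x : T ⟶ W p n S) (k : ℕ) :
    pts p T (Additive.ofMul (x ^ k)) = k • pts p T (Additive.ofMul x) := by
  rw [ofMul_pow, map_nsmul]

theorem pts_inv (T : Over S) (x : T ⟶ W p n S) :
    pts p T (Additive.ofMul (x⁻¹)) = - pts p T (Additive.ofMul x) := by
  rw [ofMul_inv, map_neg]

theorem pts_div (T : Over S) (x y : T ⟶ W p n S) :
    pts p T (Additive.ofMul (x / y)) = pts p T (Additive.ofMul x) - pts p T (Additive.ofMul y) := by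
  rw [ofMul_div, map_sub]

/-- The morphism to `W_n` given by a Witt vector of functions. -/
noncomputable def ofVec (T : Over S) (v : TruncatedWittVector p n Γ(T.left, ⊤)) : T ⟶ W p n S :=
  ((pts p T).symm v).toMul

@[simp]
theorem pts_ofVec (T : Over S) (v : TruncatedWittVector p n Γ(T.left, ⊤)) :
    pts p T (Additive.ofMul (ofVec p T v)) = v :=
  (pts p T).apply_symm_apply v

@[simp]
theorem ofVec_pts (T : Over S) (x : T ⟶ W p n S) :
    ofVec p T (pts p T (Additive.ofMul x)) = x :=
  pts_ext p (pts_ofVec p T _)

end SchemeLevel

end K718.Pts
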