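import Groth.Agent.WittGrp.K718.Pts
import Groth.Agent.Pi1.H413.SecChart
import Mathlib.AlgebraicGeometry.Morphisms.Flat
import Mathlib.AlgebraicGeometry.Morphisms.Smooth
import Mathlib.AlgebraicGeometry.Morphisms.ClosedImmersion

/-!
# Geometry of the Witt group schemes

* instances: `W_n` is affine, smooth, flat, separated, surjective, locally of finite presentation over the base;
* `low`, `high`: the scheme morphisms `W_{n+m} ⟶ W_n`, `W_{n+m} ⟶ W_m` (first `n`, last `m` coordinates), and
  `splitIso : W_{n+m} ≅ W_n ⊗ W_m` as schemes;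
* `pad : W_n ⟶ W_m` for `n ≤ m` (zeros at the end), a section of the restriction.
-/

set_option autoImplicit false

universe u

open CategoryTheory CategoryTheory.Limits AlgebraicGeometry Opposite MonObj MonoidalCategory CartesianMonoidalCategory

namespace K718.Sch

open WittGrp K718.Pts

variable (p : ℕ) [hp : Fact p.Prime] (n m : ℕ) (S : Scheme.{u})

instance isAffineHom_hom : IsAffineHom (W p n S).hom := by
  change IsAffineHom (𝔸(ULift (Fin n); S) ↘ S); infer_instance

instance smooth_hom : Smooth (W p n S).hom :=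
  Groth.Agent.Pi1.H413.SecChart.smooth_affineSpace (ULift.{u} (Fin n)) S

instance surjective_hom : Surjective (W p n S).hom := by
  change Surjective (𝔸(ULift (Fin n); S) ↘ S); infer_instance

instance isAffine_left [IsAffine S] : IsAffine (W p n S).left := by
  change IsAffine (𝔸(ULift (Fin n); S)); infer_instance

section

variable {p n m S}

/-- The `i`-th coordinate (as a function) of a point. -/
theorem coeff_ofVec {T : Over S} (v : TruncatedWittVector p n Γ(T.left, ⊤)) (i : Fin n) :
    (ofVec p T v).left.appTop (coord p i) = v.coeff i := by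
  rw [← coeff_pts, pts_ofVec]

theorem left_hom_ext {T : Over S} {x y : T ⟶ W p n S}
    (h : ∀ i : Fin n, (pts p T (Additive.ofMul x)).coeff i = (pts p T (Additive.ofMul y)).coeff i) : x = y :=
  pts_ext p (TruncatedWittVector.ext h)

end

/-- Reindexing the coordinates: the scheme morphism `W_n ⟶ W_m` whose `j`-th coordinate is the `σ j`-th coordinate, or
zero when `σ j = none`. -/
noncomputable def reindex {n m : ℕ} (σ : Fin m → Option (Fin n)) : W p n S ⟶ W p m S :=
  ofVec p (W p n S) (TruncatedWittVector.mk p fun j => (σ j).elim 0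
    fun i => (pts p (W p n S) (Additive.ofMul (𝟙 _))).coeff i)

theorem pts_reindex {n m : ℕ} (σ : Fin m → Option (Fin n)) {T : Over S} (x : T ⟶ W p n S) (j : Fin m) :
    (pts p T (Additive.ofMul (x ≫ reindex p S σ))).coeff j =
      (σ j).elim 0 fun i => (pts p T (Additive.ofMul x)).coeff i := by
  rw [pts_comp, coeff_truncMap, reindex, pts_ofVec, TruncatedWittVector.coeff_mk]
  rcases h : σ j with _ | i
  · simp
  · simp only [Option.elim_some]
    rw [← coeff_truncMap, ← pts_comp, Category.comp_id]

/-- The last `m` coordinates `W_{n+m} ⟶ W_m` (not a homomorphism). -/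
noncomputable def high : W p (n + m) S ⟶ W p m S :=
  reindex p S fun j => some (Fin.natAdd n j)

theorem pts_high {T : Over S} (x : T ⟶ W p (n + m) S) (j : Fin m) :
    (pts p T (Additive.ofMul (x ≫ high p n m S))).coeff j =
      (pts p T (Additive.ofMul x)).coeff (Fin.natAdd n j) := by
  rw [high, pts_reindex]; rfl

/-- Zeros at the end: `W_n ⟶ W_m`, `n ≤ m` (not a homomorphism); a section of the restriction. -/
noncomputable def pad {n m : ℕ} (_ : n ≤ m) : W p n S ⟶ W p m S :=
  reindex p S fun j => if hj : (j : ℕ) < n then some ⟨j, hj⟩ else none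

theorem pts_pad {n m : ℕ} (h : n ≤ m) {T : Over S} (x : T ⟶ W p n S) (j : Fin m) :
    (pts p T (Additive.ofMul (x ≫ pad p S h))).coeff j =
      if hj : (j : ℕ) < n then (pts p T (Additive.ofMul x)).coeff ⟨j, hj⟩ else 0 := by
  rw [pad, pts_reindex]
  split_ifs <;> rfl

theorem pad_R {n m : ℕ} (h : n ≤ m) : pad p S h ≫ R p S h = 𝟙 _ := by
  refine left_hom_ext fun i => ?_
  rw [pts_R, ← Category.id_comp (pad p S h), TruncatedWittVector.coeff_truncate, pts_pad]
  rw [dif_pos (by simp)]
  rfl

theorem pts_R_coeff {n m : ℕ} (h : n ≤ m) {T : Over S} (x : T ⟶ W p m S) (i : Fin n) :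
    (pts p T (Additive.ofMul (x ≫ R p S h))).coeff i =
      (pts p T (Additive.ofMul x)).coeff (Fin.castLE h i) := by
  rw [pts_R, TruncatedWittVector.coeff_truncate]

/-- The joining morphism `W_n ⊗ W_m ⟶ W_{n+m}` of schemes. -/
noncomputable def join : W p n S ⊗ W p m S ⟶ W p (n + m) S :=
  ofVec p _ (TruncatedWittVector.mk p fun j => Fin.addCases
    (fun i => (pts p (W p n S ⊗ W p m S) (Additive.ofMul (fst _ _))).coeff i)
    (fun i => (pts p (W p n S ⊗ W p m S) (Additive.ofMul (snd _ _))).coeff i) j)

theorem pts_join_castAdd {T : Over S} (x : T ⟶ W p n S) (y : T ⟶ W p m S) (i : Fin n) :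
    (pts p T (Additive.ofMul (lift x y ≫ join p n m S))).coeff (Fin.castAdd m i) =
      (pts p T (Additive.ofMul x)).coeff i := by
  rw [pts_comp, coeff_truncMap, join, pts_ofVec, TruncatedWittVector.coeff_mk, Fin.addCases_left,
    ← coeff_truncMap, ← pts_comp, lift_fst]

theorem pts_join_natAdd {T : Over S} (x : T ⟶ W p n S) (y : T ⟶ W p m S) (i : Fin m) :
    (pts p T (Additive.ofMul (lift x y ≫ join p n m S))).coeff (Fin.natAdd n i) =
      (pts p T (Additive.ofMul y)).coeff i := by
  rw [pts_comp, coeff_truncMap, join, pts_ofVec, TruncatedWittVector.coeff_mk, Fin.addCases_right,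
    ← coeff_truncMap, ← pts_comp, lift_snd]

/-- `W_{n+m} ≅ W_n ⊗ W_m` as schemes over `S`. -/
noncomputable def splitIso : W p (n + m) S ≅ W p n S ⊗ W p m S where
  hom := lift (R p S (Nat.le_add_right n m)) (high p n m S)
  inv := join p n m S
  hom_inv_id := by
    refine left_hom_ext fun i => ?_
    refine Fin.addCases (fun i => ?_) (fun i => ?_) i
    · rw [pts_join_castAdd, ← Category.id_comp (R p S _), pts_R_coeff]
      rfl
    · rw [pts_join_natAdd, ← Category.id_comp (high p n m S), pts_high]
  inv_hom_id := by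
    refine CartesianMonoidalCategory.hom_ext _ _ ?_ ?_
    · rw [Category.assoc, lift_fst, Category.id_comp]
      refine left_hom_ext fun i => ?_
      rw [pts_R_coeff]
      have := pts_join_castAdd p n m S (fst (W p n S) (W p m S)) (snd _ _) i
      rw [lift_fst_snd, Category.id_comp] at this
      exact this
    · rw [Category.assoc, lift_snd, Category.id_comp]
      refine left_hom_ext fun i => ?_
      rw [pts_high]
      have := pts_join_natAdd p n m S (fst (W p n S) (W p m S)) (snd _ _) i
      rw [lift_fst_snd, Category.id_comp] at this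
      exact this

theorem splitIso_hom_fst : (splitIso p n m S).hom ≫ fst _ _ = R p S (Nat.le_add_right n m) := lift_fst _ _

theorem splitIso_hom_snd : (splitIso p n m S).hom ≫ snd _ _ = high p n m S := lift_snd _ _

/-- `V ≫ high = 𝟙`. -/
theorem V_high : V p S (Nat.le_add_left m n) ≫ high p n m S = 𝟙 _ := by
  refine left_hom_ext fun i => ?_
  rw [pts_high, ← Category.id_comp (V p S _), pts_V, coeff_shift]
  have h : n + m - m ≤ ((Fin.natAdd n i : Fin (n + m)) : ℕ) := by simp
  rw [dif_pos h]
  congr 1
  ext
  simp

end K718.Sch
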