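import Mathlib.RingTheory.Flat.FaithfullyFlat.Basic
import Mathlib.RingTheory.RingHom.FaithfullyFlat
import Mathlib.Algebra.Category.Ring.Constructions
import Mathlib.RingTheory.TensorProduct.Basic

/-!
# Algebraic core of the vanishing of the first Čech cohomology of a torsor over an affine base
-/

set_option autoImplicit false

universe u

open CategoryTheory TensorProduct

namespace K718.SectAlg

variable {A B N P : Type u} [CommRing A] [CommRing B] [CommRing N] [CommRing P]
  [Algebra A B] [Algebra A N] [Algebra A P]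

theorem mem_range_of_tensor [Module.FaithfullyFlat A B] {M M' : Type u} [AddCommGroup M] [Module A M]
    [AddCommGroup M'] [Module A M'] (D : M →ₗ[A] M') (x : M') (θ : B ⊗[A] M)
    (h : D.lTensor B θ = 1 ⊗ₜ[A] x) : x ∈ LinearMap.range D := by
  have h1 : (1 : B) ⊗ₜ[A] ((LinearMap.range D).mkQ x) = 0 := by
    have h2 : (LinearMap.lTensor B (LinearMap.range D).mkQ) (D.lTensor B θ) = 0 := by
      rw [← LinearMap.comp_apply, ← LinearMap.lTensor_comp]
      have : (LinearMap.range D).mkQ ∘ₗ D = 0 := by
        ext y
        simp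
      rw [this, LinearMap.lTensor_zero, LinearMap.zero_apply]
    rw [h, LinearMap.lTensor_tmul] at h2
    exact h2
  have h3 : (LinearMap.range D).mkQ x = 0 := by
    have := Module.FaithfullyFlat.tensorProduct_mk_injective (A := A) (B := B) (M' ⧸ LinearMap.range D)
    apply this
    rw [TensorProduct.mk_apply, TensorProduct.mk_apply, h1, TensorProduct.tmul_zero]
  simpa using h3

/-- The core: a cocycle is a coboundary. -/
theorem exists_primitive [Module.FaithfullyFlat A B] (f ρ : B →ₐ[A] N) (e : B →ₐ[A] P) (a m q : N →ₐ[A] P)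
    (hsurj : Function.Surjective (Algebra.TensorProduct.productMap f ρ))
    (hinj : Function.Injective (Algebra.TensorProduct.productMap e a))
    (hmf : ∀ b, m (f b) = e b) (hmρ : ∀ b, m (ρ b) = a (ρ b))
    (hqf : ∀ b, q (f b) = e b) (hqρ : ∀ b, q (ρ b) = a (f b))
    (x : N) (hx : m x = q x + a x) : ∃ b : B, ρ b - f b = x := by
  obtain ⟨θ, hθ⟩ := hsurj x
  have key : ∀ θ : B ⊗[A] B, Algebra.TensorProduct.productMap e a ((ρ.toLinearMap - f.toLinearMap).lTensor B θ) =
      m (Algebra.TensorProduct.productMap f ρ θ) - q (Algebra.TensorProduct.productMap f ρ θ) := by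
    intro θ
    induction θ using TensorProduct.induction_on with
    | zero => simp
    | tmul b b' =>
      simp only [LinearMap.lTensor_tmul, LinearMap.sub_apply, AlgHom.toLinearMap_apply,
        Algebra.TensorProduct.productMap_apply_tmul, map_sub, map_mul, hmf, hmρ, hqf, hqρ]
      ring
    | add x y hx hy =>
      simp only [map_add, hx, hy]
      ring
  have h1 : (ρ.toLinearMap - f.toLinearMap).lTensor B θ = 1 ⊗ₜ[A] x := by
    apply hinj
    rw [key, hθ, hx, Algebra.TensorProduct.productMap_apply_tmul, map_one, one_mul]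
    ring
  obtain ⟨b, hb⟩ := mem_range_of_tensor _ _ _ h1
  exact ⟨b, hb⟩

theorem bijective_productMap (e : B →ₐ[A] P) (a : N →ₐ[A] P)
    (h : IsPushout (CommRingCat.ofHom (algebraMap A B)) (CommRingCat.ofHom (algebraMap A N))
      (CommRingCat.ofHom e.toRingHom) (CommRingCat.ofHom a.toRingHom)) :
    Function.Bijective (Algebra.TensorProduct.productMap e a) := by
  let h0 := CommRingCat.isPushout_tensorProduct A B N
  let i := h0.isoIsPushout _ _ h
  have hi : Function.Bijective i.hom.hom := i.commRingCatIsoToRingEquiv.bijective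
  have : i.hom.hom = (Algebra.TensorProduct.productMap e a).toRingHom := by
    have h1 : ∀ b : B, i.hom.hom (b ⊗ₜ[A] 1) = e b := fun b =>
      congrArg (fun f : CommRingCat.of B ⟶ CommRingCat.of P => f.hom b) (IsPushout.inl_isoIsPushout_hom _ _ h0 h)
    have h2 : ∀ b : N, i.hom.hom (1 ⊗ₜ[A] b) = a b := fun b =>
      congrArg (fun f : CommRingCat.of N ⟶ CommRingCat.of P => f.hom b) (IsPushout.inr_isoIsPushout_hom _ _ h0 h)
    refine RingHom.ext fun θ => ?_
    induction θ using TensorProduct.induction_on with
    | zero => simp only [map_zero]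
    | tmul b b' =>
      have : b ⊗ₜ[A] b' = (b ⊗ₜ[A] 1) * (1 ⊗ₜ[A] b') := by simp
      rw [this, map_mul, map_mul]
      congr 1
      · refine (h1 b).trans ?_
        simp
      · refine (h2 b').trans ?_
        simp
    | add x y hx hy => rw [map_add, map_add, hx, hy]
  rw [this] at hi
  exact hi

end K718.SectAlg
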